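import Cfsg.Agent.LThree.Base
import Cfsg.Agent.Lib.LocalCore
import Cfsg.Agent.SignalizersComponents.CompBasic

/-!
# Reduction for the rows "`L_p(G)` consists of `C_p`-groups" (helper7)

`Comps p H` (`LThree/Base.lean`) : every component of `H / O_{p'}(H)` is a `C_p`-group.

* `centralizer_mk` : `C_{H/N}(s) = C_H(s) N / N` for `N` a normal `r'`-subgroup and `s` of order `r`;
* `comps_quot_iff`, `comps_of_surj`, `comps_of_sup` : quotients by `p'`-subgroups, `H = R D`;
* `comps_of_normal` : `N` normal in `H`, `H/N` solvable: `Comps p N → Comps p H`;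
* `comps_cent_iff`, `lpAll_of_quot`, `lpAll_of_normal` : the same for `L_p(X)`;
* `main` : the reduction of `Comps p H` to the centralizers of involutions of `H`, up to an almost simple quotient.
-/

set_option autoImplicit false
set_option linter.unusedSectionVars false
set_option linter.unusedVariables false

namespace Cfsg.Agent.LThree.Red

open Subgroup Cfsg Cfsg.Agent.SignalizersComponents

universe u v

section

variable {H : Type u} [Group H] [Finite H] {p : ℕ}

/-! ### Centralizers in quotients -/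

theorem zpowers_inf_eq_bot {r : ℕ} (hr : r.Prime) (N : Subgroup H) (hN : (Nat.card ↥N).Coprime r) {s : H}
    (hs : orderOf s = r) : zpowers s ⊓ N = ⊥ := by
  have h1 : (Nat.card ↥(zpowers s)).Coprime (Nat.card ↥N) := by
    rw [Nat.card_zpowers, hs]
    exact hN.symm
  exact (Subgroup.disjoint_of_coprime_natCard h1).eq_bot

/-- `C_{H/N}(s) = C_H(s) N / N` for `N` a normal `r'`-subgroup and `s` of prime order `r`. -/
theorem centralizer_mk {r : ℕ} (hr : r.Prime) (N : Subgroup H) [N.Normal] (hN : (Nat.card ↥N).Coprime r) {s : H}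
    (hs : orderOf s = r) :
    centralizer ({(QuotientGroup.mk' N s)} : Set (H ⧸ N)) = (centralizer ({s} : Set H)).map (QuotientGroup.mk' N) := by
  have : Fact r.Prime := ⟨hr⟩
  apply le_antisymm
  · intro y hy
    obtain ⟨g, rfl⟩ := QuotientGroup.mk'_surjective N y
    rw [mem_centralizer_singleton_iff] at hy
    have hP : IsPGroup r ↥(zpowers s) := IsPGroup.of_card (n := 1) (by rw [Nat.card_zpowers, hs, pow_one])
    have h0 : g * s * g⁻¹ * s⁻¹ ∈ N := by
      rw [← QuotientGroup.eq_one_iff]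
      have h2 : (QuotientGroup.mk' N) (g * s * g⁻¹ * s⁻¹) = 1 := by
        rw [map_mul, map_mul, map_mul, map_inv, map_inv, hy]
        group
      exact h2
    have h1 : g * s * g⁻¹ ∈ zpowers s ⊔ N := by
      have h2 : g * s * g⁻¹ = (g * s * g⁻¹ * s⁻¹) * s := by group
      rw [h2]
      exact mul_mem (mem_sup_right h0) (mem_sup_left (mem_zpowers s))
    have hg : ∀ x ∈ zpowers s, g * x * g⁻¹ ∈ zpowers s ⊔ N := by
      rintro _ ⟨k, rfl⟩
      change g * s ^ k * g⁻¹ ∈ _
      rw [← conj_zpow]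
      exact zpow_mem h1 k
    obtain ⟨n, hn, hng⟩ := Lib.LocalCore.exists_mul_mem_normalizer r N (zpowers s) hN hP hg
    refine ⟨n * g, ?_, ?_⟩
    · rw [SetLike.mem_coe, mem_centralizer_singleton_iff]
      have h2 : (n * g) * s * (n * g)⁻¹ ∈ zpowers s := (mem_normalizer_iff.1 hng s).1 (mem_zpowers s)
      have h3 : (n * g) * s * (n * g)⁻¹ * s⁻¹ ∈ zpowers s ⊓ N := by
        refine ⟨mul_mem h2 (Subgroup.inv_mem _ (mem_zpowers s)), ?_⟩
        have e : (n * g) * s * (n * g)⁻¹ * s⁻¹ = n * ((g * s * g⁻¹ * s⁻¹) * (s * n⁻¹ * s⁻¹)) := by group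
        rw [SetLike.mem_coe, e]
        exact mul_mem hn (mul_mem h0 (Normal.conj_mem inferInstance _ (Subgroup.inv_mem _ hn) s))
      rw [zpowers_inf_eq_bot hr N hN hs, mem_bot] at h3
      have h4 := mul_inv_eq_one.1 h3
      exact mul_inv_eq_iff_eq_mul.1 h4
    · rw [map_mul]
      have h2 : (QuotientGroup.mk' N) n = 1 := (QuotientGroup.eq_one_iff _).2 hn
      rw [h2, one_mul]
  · rintro _ ⟨g, hg, rfl⟩
    rw [SetLike.mem_coe, mem_centralizer_singleton_iff] at hg
    rw [mem_centralizer_singleton_iff, ← map_mul, hg, map_mul]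

theorem orderOf_mk {r : ℕ} (hr : r.Prime) (N : Subgroup H) [N.Normal] (hN : (Nat.card ↥N).Coprime r) {s : H}
    (hs : orderOf s = r) : orderOf (QuotientGroup.mk' N s) = r := by
  have : Fact r.Prime := ⟨hr⟩
  apply orderOf_eq_prime
  · rw [← map_pow, ← hs, pow_orderOf_eq_one, map_one]
  · intro h
    have h1 : s ∈ zpowers s ⊓ N := ⟨mem_zpowers s, (QuotientGroup.eq_one_iff _).1 h⟩
    rw [zpowers_inf_eq_bot hr N hN hs, mem_bot] at h1
    rw [h1, orderOf_one] at hs
    exact hr.one_lt.ne hs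

/-- An involution of `H/N`, `|N|` odd, comes from an involution of `H`. -/
theorem exists_involution_lift (N : Subgroup H) [N.Normal] (hN : Odd (Nat.card ↥N)) {y : H ⧸ N}
    (hy : orderOf y = 2) : ∃ s : H, orderOf s = 2 ∧ QuotientGroup.mk' N s = y := by
  obtain ⟨u, rfl⟩ := QuotientGroup.mk'_surjective N y
  have h1 : (QuotientGroup.mk' N u) ^ 2 = 1 := by rw [← hy, pow_orderOf_eq_one]
  have h2 : u ^ 2 ∈ N := by
    rw [← map_pow] at h1
    exact (QuotientGroup.eq_one_iff _).1 h1
  have h3 : QuotientGroup.mk' N (u ^ Nat.card ↥N) = QuotientGroup.mk' N u := by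
    obtain ⟨k, hk⟩ := hN
    rw [map_pow, hk, pow_succ, pow_mul, h1, one_pow, one_mul]
  refine ⟨u ^ Nat.card ↥N, ?_, h3⟩
  have : Fact (Nat.Prime 2) := ⟨Nat.prime_two⟩
  apply orderOf_eq_prime
  · have h4 : (⟨u ^ 2, h2⟩ : ↥N) ^ Nat.card ↥N = 1 := pow_card_eq_one'
    have h5 := congrArg Subtype.val h4
    rw [← pow_mul, mul_comm, pow_mul]
    exact h5
  · intro h4
    rw [h4, map_one] at h3
    rw [← h3, orderOf_one] at hy
    norm_num at hy

/-! ### `Comps` and quotients -/

theorem comps_quot_iff (N : Subgroup H) [N.Normal] (hN : (Nat.card ↥N).Coprime p) :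
    Comps p (H ⧸ N) ↔ Comps p H := by
  have h1 := Lib.Cores.comap_mk_pPrimeCore (G := H) p hN
  have hn := Lib.Cores.pPrimeCore_normal (G := H) p
  have hNle : N ≤ pPrimeCore p H := Lib.Cores.le_pPrimeCore inferInstance hN
  have h2 : (pPrimeCore p H).map (QuotientGroup.mk' N) = pPrimeCore p (H ⧸ N) := by
    rw [← h1, map_comap_eq_self_of_surjective (QuotientGroup.mk'_surjective N)]
  have hn2 := Lib.Cores.pPrimeCore_normal (G := H ⧸ N) p
  let e1 : (H ⧸ N) ⧸ pPrimeCore p (H ⧸ N) ≃* (H ⧸ N) ⧸ (pPrimeCore p H).map (QuotientGroup.mk' N) :=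
    QuotientGroup.quotientMulEquivOfEq h2.symm
  let e : (H ⧸ N) ⧸ pPrimeCore p (H ⧸ N) ≃* H ⧸ pPrimeCore p H :=
    e1.trans (QuotientGroup.quotientQuotientEquivQuotient N (pPrimeCore p H) hNle)
  constructor
  · intro h K hK
    have h3 := h _ (isComponent_map e.symm hK)
    exact (CpQuot.Congr.inC_iff (K.equivMapOfInjective e.symm.toMonoidHom e.symm.injective) p).2 h3
  · intro h K hK
    have h3 := h _ (isComponent_map e hK)
    exact (CpQuot.Congr.inC_iff (K.equivMapOfInjective e.toMonoidHom e.injective) p).2 h3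

/-- Surjective homomorphisms with kernel a `p'`-group. -/
theorem comps_iff_of_surj {Y : Type v} [Group Y] (f : H →* Y) (hf : Function.Surjective f)
    (hk : (Nat.card ↥f.ker).Coprime p) : Comps p Y ↔ Comps p H := by
  rw [← comps_quot_iff f.ker hk]
  constructor
  · exact fun h => h.congr (QuotientGroup.quotientKerEquivOfSurjective f hf).symm
  · exact fun h => h.congr (QuotientGroup.quotientKerEquivOfSurjective f hf)

theorem card_inf_coprime {N D : Subgroup H} (hN : (Nat.card ↥N).Coprime p) : (Nat.card ↥(N.subgroupOf D)).Coprime p := by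
  refine Nat.Coprime.coprime_dvd_left ?_ hN
  have h1 : Nat.card ↥(N.subgroupOf D) = Nat.card ↥((N.subgroupOf D).map D.subtype) :=
    (card_map_of_injective D.subtype_injective).symm
  rw [h1]
  apply card_dvd_of_le
  rw [subgroupOf_map_subtype]
  exact inf_le_left

/-- `H = R D` with `R` a normal `p'`-subgroup. -/
theorem comps_of_sup (R D : Subgroup H) [R.Normal] (hR : (Nat.card ↥R).Coprime p) (h : R ⊔ D = ⊤) :
    Comps p ↥D ↔ Comps p H := by
  rw [← comps_quot_iff R hR]
  let f : ↥D →* H ⧸ R := (QuotientGroup.mk' R).comp D.subtype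
  have hf : Function.Surjective f := by
    intro y
    obtain ⟨g, rfl⟩ := QuotientGroup.mk'_surjective R y
    have hg : g ∈ R ⊔ D := by rw [h]; exact mem_top g
    obtain ⟨r, hr, d, hd, rfl⟩ := mem_sup_of_normal_left.1 hg
    refine ⟨⟨d, hd⟩, ?_⟩
    change QuotientGroup.mk' R d = QuotientGroup.mk' R (r * d)
    rw [map_mul]
    have h2 : (QuotientGroup.mk' R) r = 1 := (QuotientGroup.eq_one_iff _).2 hr
    rw [h2, one_mul]
  have hk : f.ker = R.subgroupOf D := by
    ext x
    rw [MonoidHom.mem_ker, mem_subgroupOf]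
    exact QuotientGroup.eq_one_iff _
  exact (comps_iff_of_surj f hf (by rw [hk]; exact card_inf_coprime hR)).symm

/-- If `O_{p'}(X) ∩ K = 1` for a component `K` of `X` then `K` is a `C_p`-group when `Comps p X`. -/
theorem inC_of_comps {X : Type u} [Group X] [Finite X] (h : Comps p X) {K : Subgroup X} (hK : IsComponent K)
    (hi : K ⊓ pPrimeCore p X = ⊥) : InC p ↥K := by
  have hn := Lib.Cores.pPrimeCore_normal (G := X) p
  let π := QuotientGroup.mk' (pPrimeCore p X)
  let f : ↥K →* X ⧸ pPrimeCore p X := π.comp K.subtype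
  have hf : Function.Injective f := by
    rw [injective_iff_map_eq_one]
    intro x hx
    have h1 : (x : X) ∈ pPrimeCore p X := (QuotientGroup.eq_one_iff _).1 hx
    have h2 : (x : X) ∈ K ⊓ pPrimeCore p X := ⟨x.2, h1⟩
    rw [hi, mem_bot] at h2
    exact Subtype.ext h2
  have hr : f.range = K.map π := by
    rw [MonoidHom.range_comp, range_subtype]
  let e : ↥K ≃* ↥(K.map π) := (MonoidHom.ofInjective hf).trans (MulEquiv.subgroupCongr hr)
  have hc : IsComponent (K.map π) :=
    ⟨hK.1.map (QuotientGroup.mk'_surjective _), Components.isQuasisimple_of_mulEquiv e hK.2⟩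
  exact (CpQuot.Congr.inC_iff e p).2 (h _ hc)

/-- A component of `X` meets `O_{p'}(X)` trivially if its intersection with it is trivial in a larger group: a component of
a group with trivial `p'`-core has no nontrivial normal `p'`-subgroup. -/
theorem comp_normal_coprime {X : Type u} [Group X] [Finite X] (hX : pPrimeCore p X = ⊥) {K : Subgroup X}
    (hK : K.IsSubnormal) {N : Subgroup ↥K} (hN : N.Normal) (hc : (Nat.card ↥N).Coprime p) : N = ⊥ := by
  have h1 : N ≤ pPrimeCore p ↥K := Lib.Cores.le_pPrimeCore hN hc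
  have h2 := CompBasic.map_subtype_pPrimeCore_of_subnormal p hK
  rw [hX, inf_bot_eq] at h2
  have h3 : pPrimeCore p ↥K = ⊥ := (Subgroup.map_eq_bot_iff_of_injective _ K.subtype_injective).1 h2
  rw [h3] at h1
  exact le_bot_iff.1 h1

theorem comps_iff_of_core_bot {X : Type u} [Group X] [Finite X] (hX : pPrimeCore p X = ⊥) :
    Comps p X ↔ ∀ K : Subgroup X, IsComponent K → InC p ↥K := by
  constructor
  · intro h K hK
    exact inC_of_comps h hK (by rw [hX, inf_bot_eq])
  · intro h K hK
    let e : X ⧸ pPrimeCore p X ≃* X :=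
      (QuotientGroup.quotientMulEquivOfEq hX).trans QuotientGroup.quotientBot
    have h1 := h _ (isComponent_map e hK)
    exact (CpQuot.Congr.inC_iff (K.equivMapOfInjective e.toMonoidHom e.injective) p).2 h1

/-- `N` normal in `H` with `H/N` solvable. -/
theorem comps_of_normal (N : Subgroup H) [N.Normal] (hs : Group.IsSolvable (H ⧸ N)) (h : Comps p ↥N) :
    Comps p H := by
  have hn := Lib.Cores.pPrimeCore_normal (G := H) p
  let π := QuotientGroup.mk' (pPrimeCore p H)
  have hπ : Function.Surjective π := QuotientGroup.mk'_surjective _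
  have hb : pPrimeCore p (H ⧸ pPrimeCore p H) = ⊥ := Lib.Cores.pPrimeCore_quotient_pPrimeCore p
  have hnm : (N.map π).Normal := Subgroup.Normal.map inferInstance π hπ
  -- `Comps p (N π)`
  let f : ↥N →* ↥(N.map π) := π.subgroupMap N
  have hf : Function.Surjective f := π.subgroupMap_surjective N
  have hk : (Nat.card ↥f.ker).Coprime p := by
    have h1 : f.ker = (pPrimeCore p H).subgroupOf N := by
      ext x
      rw [MonoidHom.mem_ker, mem_subgroupOf, ← QuotientGroup.eq_one_iff]
      constructor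
      · intro hx
        exact congrArg Subtype.val hx
      · intro hx
        exact Subtype.ext hx
    rw [h1]
    exact card_inf_coprime (Lib.Cores.pPrimeCore_coprime p)
  have h1 : Comps p ↥(N.map π) := (comps_iff_of_surj f hf hk).2 h
  have hb2 : pPrimeCore p ↥(N.map π) = ⊥ := by
    have h2 := CompBasic.map_subtype_pPrimeCore_of_subnormal p hnm.isSubnormal
    rw [hb, inf_bot_eq] at h2
    exact (Subgroup.map_eq_bot_iff_of_injective _ (N.map π).subtype_injective).1 h2
  rw [comps_iff_of_core_bot hb2] at h1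
  intro K hK
  have hKN : K ≤ N.map π := by
    obtain ⟨n, hn⟩ := derivedSeries_le_of_solvable N hs
    have h3 := le_derivedSeries_of_perfect (Components.component_commutator_self hK) n
    refine h3.trans ?_
    rw [← map_derivedSeries_eq hπ n]
    exact map_mono hn
  have h4 := h1 _ (Components.isComponent_subgroupOf hKN hK)
  exact (CpQuot.Congr.inC_iff (subgroupOfEquivOfLe hKN) p).1 h4

/-! ### `L_p(X)` -/

/-- `C_X(x)` and `C_{X/N}(x)`. -/
theorem comps_cent_iff (hp : p.Prime) (N : Subgroup H) [N.Normal] (hN : (Nat.card ↥N).Coprime p) {x : H}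
    (hx : orderOf x = p) :
    Comps p ↥(centralizer ({(QuotientGroup.mk' N x)} : Set (H ⧸ N))) ↔ Comps p ↥(centralizer ({x} : Set H)) := by
  have h1 := centralizer_mk hp N hN hx
  let π := QuotientGroup.mk' N
  let f0 : ↥(centralizer ({x} : Set H)) →* ↥((centralizer ({x} : Set H)).map π) := π.subgroupMap _
  let f : ↥(centralizer ({x} : Set H)) →* ↥(centralizer ({(QuotientGroup.mk' N x)} : Set (H ⧸ N))) :=
    (MulEquiv.subgroupCongr h1.symm).toMonoidHom.comp f0
  have hf : Function.Surjective f := (MulEquiv.subgroupCongr h1.symm).surjective.comp (π.subgroupMap_surjective _)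
  have hk : f.ker = N.subgroupOf (centralizer ({x} : Set H)) := by
    ext y
    rw [MonoidHom.mem_ker, mem_subgroupOf, ← QuotientGroup.eq_one_iff]
    constructor
    · intro hy
      exact congrArg Subtype.val hy
    · intro hy
      exact Subtype.ext hy
  exact comps_iff_of_surj f hf (by rw [hk]; exact card_inf_coprime hN)

/-- Passage from `X/N` to `X`, `N` a normal `p'`-subgroup. -/
theorem lpAll_of_quot (hp : p.Prime) (N : Subgroup H) [N.Normal] (hN : (Nat.card ↥N).Coprime p)
    (h : LpAll p (H ⧸ N) (InC p)) : LpAll p H (InC p) := by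
  rw [lpAll_iff] at h ⊢
  intro x hx
  exact (comps_cent_iff hp N hN hx).1 (h _ (orderOf_mk hp N hN hx))

/-- Passage from `X` to `X/N`, `N` a normal `p'`-subgroup. -/
theorem lpAll_quot (hp : p.Prime) (N : Subgroup H) [N.Normal] (hN : (Nat.card ↥N).Coprime p)
    (h : LpAll p H (InC p)) : LpAll p (H ⧸ N) (InC p) := by
  rw [lpAll_iff] at h ⊢
  intro y hy
  obtain ⟨x, rfl⟩ := QuotientGroup.mk'_surjective N y
  -- replace `x` by an element of order `p`
  have h1 : (QuotientGroup.mk' N x) ^ p = 1 := by rw [← hy, pow_orderOf_eq_one]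
  have h2 : x ^ p ∈ N := by
    rw [← map_pow] at h1
    exact (QuotientGroup.eq_one_iff _).1 h1
  have h4 : (x ^ Nat.card ↥N) ^ p = 1 := by
    have h4 : (⟨x ^ p, h2⟩ : ↥N) ^ Nat.card ↥N = 1 := pow_card_eq_one'
    have h5 := congrArg Subtype.val h4
    rw [← pow_mul, mul_comm, pow_mul]
    exact h5
  -- `x ^ |N|` and `x` generate the same subgroup modulo `N`
  obtain ⟨m, hm⟩ : ∃ m : ℕ, Nat.card ↥N * m ≡ 1 [MOD p] := by
    obtain ⟨m, hm⟩ := Nat.exists_mul_mod_eq_one_of_coprime hN hp.one_lt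
    exact ⟨m, by rw [Nat.ModEq, hm.2, Nat.mod_eq_of_lt hp.one_lt]⟩
  have h5 : QuotientGroup.mk' N ((x ^ Nat.card ↥N) ^ m) = QuotientGroup.mk' N x := by
    rw [← pow_mul, map_pow]
    nth_rewrite 2 [← pow_one ((QuotientGroup.mk' N) x)]
    exact pow_eq_pow_iff_modEq.2 (by rw [hy]; exact hm)
  have h6 : orderOf ((x ^ Nat.card ↥N) ^ m) = p := by
    have : Fact p.Prime := ⟨hp⟩
    apply orderOf_eq_prime
    · rw [← pow_mul, mul_comm, pow_mul, h4, one_pow]
    · intro h7
      rw [h7, map_one] at h5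
      rw [← h5, orderOf_one] at hy
      exact hp.one_lt.ne hy
  rw [← h5]
  exact (comps_cent_iff hp N hN h6).2 (h _ h6)

/-- Passage from a normal subgroup of index prime to `p` with solvable quotient. -/
theorem lpAll_of_normal (hp : p.Prime) (N : Subgroup H) [N.Normal] (hs : Group.IsSolvable (H ⧸ N))
    (hi : N.index.Coprime p) (h : LpAll p ↥N (InC p)) : LpAll p H (InC p) := by
  rw [lpAll_iff] at h ⊢
  intro x hx
  have hxN : x ∈ N := by
    have h1 : (QuotientGroup.mk' N x) ^ p = 1 := by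
      rw [← map_pow, ← hx, pow_orderOf_eq_one, map_one]
    have h2 : (QuotientGroup.mk' N x) ^ N.index = 1 := by
      rw [index_eq_card]
      exact pow_card_eq_one'
    have h3 : orderOf (QuotientGroup.mk' N x) = 1 := by
      have h4 := orderOf_dvd_of_pow_eq_one h1
      have h5 := orderOf_dvd_of_pow_eq_one h2
      exact Nat.eq_one_of_dvd_coprimes hi h5 h4
    exact (QuotientGroup.eq_one_iff _).1 (orderOf_eq_one_iff.1 h3)
  have h1 := h ⟨x, hxN⟩ (by rw [← Subgroup.orderOf_coe]; exact hx)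
  -- `C_N(x)` as a subgroup of `C_H(x)`
  let C := centralizer ({x} : Set H)
  have hn : (N.subgroupOf C).Normal := inferInstance
  have e : ↥(centralizer ({(⟨x, hxN⟩ : ↥N)} : Set ↥N)) ≃* ↥(N.subgroupOf C) := by
    refine
      { toFun := fun y => ⟨⟨((y : ↥N) : H), ?_⟩, (y : ↥N).2⟩
        invFun := fun y => ⟨⟨((y : ↥C) : H), y.2⟩, ?_⟩
        left_inv := fun y => rfl
        right_inv := fun y => rfl
        map_mul' := fun a b => rfl }
    · have := mem_centralizer_singleton_iff.1 y.2
      exact mem_centralizer_singleton_iff.2 (congrArg Subtype.val this)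
    · have := mem_centralizer_singleton_iff.1 (y : ↥C).2
      exact mem_centralizer_singleton_iff.2 (Subtype.ext this)
  have hs2 : Group.IsSolvable (↥C ⧸ N.subgroupOf C) := by
    let g : ↥C ⧸ N.subgroupOf C →* H ⧸ N :=
      QuotientGroup.map (N.subgroupOf C) N C.subtype (fun y hy => hy)
    have hg : Function.Injective g := by
      rw [injective_iff_map_eq_one]
      intro y hy
      obtain ⟨z, rfl⟩ := QuotientGroup.mk_surjective y
      have h7 : ((z : H) : H ⧸ N) = 1 := hy
      have h8 : (z : H) ∈ N := (QuotientGroup.eq_one_iff _).1 h7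
      exact (QuotientGroup.eq_one_iff _).2 (mem_subgroupOf.2 h8)
    exact Group.isSolvable_of_isSolvable_injective hg
  exact comps_of_normal (N.subgroupOf C) hs2 (h1.congr e)

/-! ### Components centralised by an involution -/

/-- A component of `H/R`, `R = O_{p'}(H)` of odd order, which commutes with the image of an involution `s` is a component
of `C_H(s) / O_{p'}(C_H(s))`. -/
theorem inC_of_involution (hR : Odd (Nat.card ↥(pPrimeCore p H))) {L : Subgroup (H ⧸ pPrimeCore p H)}
    (hL : IsComponent L) {s : H} (hs : orderOf s = 2) (hc : Comps p ↥(centralizer ({s} : Set H)))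
    (hsL : ∀ l ∈ L, QuotientGroup.mk' (pPrimeCore p H) s * l = l * QuotientGroup.mk' (pPrimeCore p H) s) :
    InC p ↥L := by
  have hn := Lib.Cores.pPrimeCore_normal (G := H) p
  set R := pPrimeCore p H with hRdef
  let π := QuotientGroup.mk' R
  have hb : pPrimeCore p (H ⧸ R) = ⊥ := Lib.Cores.pPrimeCore_quotient_pPrimeCore p
  have h1 := centralizer_mk (r := 2) Nat.prime_two R (Nat.coprime_two_right.2 hR) hs
  set D := centralizer ({(QuotientGroup.mk' R s)} : Set (H ⧸ R)) with hD
  have hLD : L ≤ D := by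
    intro l hl
    rw [hD, mem_centralizer_singleton_iff]
    exact (hsL l hl).symm
  -- `Comps p D`
  have hcD : Comps p ↥D := by
    let f : ↥(centralizer ({s} : Set H)) →* ↥D :=
      (MulEquiv.subgroupCongr h1.symm).toMonoidHom.comp (π.subgroupMap _)
    have hf : Function.Surjective f := (MulEquiv.subgroupCongr h1.symm).surjective.comp (π.subgroupMap_surjective _)
    have hk : f.ker = R.subgroupOf (centralizer ({s} : Set H)) := by
      ext y
      rw [MonoidHom.mem_ker, mem_subgroupOf, ← QuotientGroup.eq_one_iff]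
      constructor
      · intro hy
        exact congrArg Subtype.val hy
      · intro hy
        exact Subtype.ext hy
    exact (comps_iff_of_surj f hf (by rw [hk]; exact card_inf_coprime (Lib.Cores.pPrimeCore_coprime p))).2 hc
  have hLc := Components.isComponent_subgroupOf hLD hL
  have hi : L.subgroupOf D ⊓ pPrimeCore p ↥D = ⊥ := by
    have hnD := Lib.Cores.pPrimeCore_normal (G := ↥D) p
    -- the intersection, as a subgroup of `L`
    let N : Subgroup ↥(L.subgroupOf D) := (pPrimeCore p ↥D).subgroupOf (L.subgroupOf D)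
    let e : ↥(L.subgroupOf D) ≃* ↥L := subgroupOfEquivOfLe hLD
    have hN : (N.map e.toMonoidHom).Normal := Subgroup.Normal.map inferInstance _ e.surjective
    have hNc : (Nat.card ↥(N.map e.toMonoidHom)).Coprime p := by
      rw [card_map_of_injective e.injective]
      exact card_inf_coprime (Lib.Cores.pPrimeCore_coprime p)
    have h2 := comp_normal_coprime hb hL.1 hN hNc
    have h3 : N = ⊥ := (Subgroup.map_eq_bot_iff_of_injective _ e.injective).1 h2
    rw [eq_bot_iff]
    rintro x ⟨hx1, hx2⟩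
    have h4 : (⟨x, hx1⟩ : ↥(L.subgroupOf D)) ∈ N := mem_subgroupOf.2 hx2
    rw [h3, mem_bot] at h4
    exact congrArg Subtype.val h4
  have h2 := inC_of_comps hcD hLc hi
  exact (CpQuot.Congr.inC_iff (subgroupOfEquivOfLe hLD) p).1 h2

/-! ### The case `|O_{p'}(H)|` even -/

/-- The condition at a central involution `s` of `Y` (in use: `Y = C_H(s)`): `O_{p'}(Y)` is a 2-group, and `s` is the
only involution in the centre of each normal subgroup `T` of `Y` with `s ∈ T ≤ O_{p'}(Y)`. (In use: `O_{p'}(Y)` is `⟨s⟩` or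
extraspecial with `Y` irreducible on its central quotient.) -/
def CoreCond (p : ℕ) (Y : Type*) [Group Y] (s : Y) : Prop :=
  IsPGroup 2 ↥(pPrimeCore p Y) ∧
    ∀ T : Subgroup Y, T.Normal → T ≤ pPrimeCore p Y → s ∈ T →
      ∀ z ∈ T, (∀ t ∈ T, t * z = z * t) → orderOf z = 2 → z = s

theorem CoreCond.congr {Y : Type u} {Y' : Type v} [Group Y] [Group Y'] {s : Y} (e : Y ≃* Y')
    (h : CoreCond p Y s) : CoreCond p Y' (e s) := by
  have hO := map_pPrimeCore p e
  refine ⟨?_, ?_⟩
  · rw [← hO]
    exact h.1.map _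
  · intro T hT hTO hs z hz hzc hz2
    have h1 := h.2 (T.comap e.toMonoidHom) (hT.comap _) ?_ hs (e.symm z) ?_ ?_ ?_
    · rw [← h1, e.apply_symm_apply]
    · intro y hy
      have h2 : e y ∈ (pPrimeCore p Y).map e.toMonoidHom := by
        rw [hO]
        exact hTO hy
      obtain ⟨y', hy', he⟩ := h2
      have h3 : y' = y := e.injective he
      rw [← h3]
      exact hy'
    · change e (e.symm z) ∈ T
      rw [e.apply_symm_apply]
      exact hz
    · intro t ht
      apply e.injective
      rw [map_mul, map_mul, e.apply_symm_apply]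
      exact hzc (e t) ht
    · rw [MulEquiv.orderOf_eq, hz2]

theorem comps_of_even (hp : p.Prime) (hR : Even (Nat.card ↥(pPrimeCore p H)))
    (hall : ∀ s : H, orderOf s = 2 → s ∈ pPrimeCore p H → Comps p ↥(centralizer ({s} : Set H)))
    (hcore : ∀ (s : H) (_ : orderOf s = 2), s ∈ pPrimeCore p H →
      CoreCond p ↥(centralizer ({s} : Set H)) ⟨s, mem_centralizer_singleton_iff.2 rfl⟩) :
    Comps p H := by
  have hn := Lib.Cores.pPrimeCore_normal (G := H) p
  have : Fact (Nat.Prime 2) := ⟨Nat.prime_two⟩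
  set R := pPrimeCore p H with hRdef
  obtain ⟨T⟩ : Nonempty (Sylow 2 ↥R) := inferInstance
  -- an involution in the centre of `T`
  have hTnt : Nontrivial ↥(T : Subgroup ↥R) := by
    rw [Subgroup.nontrivial_iff_ne_bot]
    intro h
    have h1 := T.card_eq_multiplicity
    rw [h, card_bot] at h1
    have h2 : 2 ^ 1 ∣ 2 ^ (Nat.card ↥R).factorization 2 := by
      apply Nat.pow_dvd_pow
      have h3 : 2 ∣ Nat.card ↥R := even_iff_two_dvd.1 hR
      exact (Nat.Prime.dvd_iff_one_le_factorization Nat.prime_two Nat.card_pos.ne').1 h3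
    rw [← h1] at h2
    norm_num at h2
  have hTp : IsPGroup 2 ↥(T : Subgroup ↥R) := T.isPGroup'
  have hZnt := hTp.center_nontrivial
  have hZp : IsPGroup 2 ↥(center ↥(T : Subgroup ↥R)) := hTp.to_subgroup _
  obtain ⟨z, hz⟩ : ∃ z : ↥(center ↥(T : Subgroup ↥R)), orderOf z = 2 := by
    apply exists_prime_orderOf_dvd_card' 2
    obtain ⟨n, hn⟩ := IsPGroup.iff_card.1 hZp
    have h1 : n ≠ 0 := by
      rintro rfl
      rw [pow_zero] at hn
      exact (Finite.one_lt_card (α := ↥(center ↥(T : Subgroup ↥R)))).ne' hn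
    rw [hn]
    exact dvd_pow_self 2 h1
  let s : H := (((z : ↥(T : Subgroup ↥R)) : ↥R) : H)
  have hs2 : orderOf s = 2 := by
    rw [Subgroup.orderOf_coe, Subgroup.orderOf_coe, Subgroup.orderOf_coe, hz]
  have hsR : s ∈ R := ((z : ↥(T : Subgroup ↥R)) : ↥R).2
  have hC := hcore s hs2 hsR
  let TH : Subgroup H := (T : Subgroup ↥R).map R.subtype
  have hsT : s ∈ TH := ⟨_, (z : ↥(T : Subgroup ↥R)).2, rfl⟩
  have hTHp : IsPGroup 2 ↥TH := hTp.map _
  have hscomm : ∀ t ∈ TH, t * s = s * t := by
    rintro _ ⟨t, ht, rfl⟩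
    have h1 := mem_center_iff.1 z.2 ⟨t, ht⟩
    exact congrArg (fun y : ↥(T : Subgroup ↥R) => ((y : ↥R) : H)) h1
  have hTC : TH ≤ centralizer ({s} : Set H) := fun t ht => mem_centralizer_singleton_iff.2 (hscomm t ht)
  have hTHR : TH ≤ R := by
    rintro _ ⟨t, ht, rfl⟩
    exact t.2
  -- `R ∩ C(s)` is the 2-group `T`
  let Y := centralizer ({s} : Set H)
  have hRY : (R.subgroupOf Y) ≤ pPrimeCore p ↥Y :=
    Lib.Cores.le_pPrimeCore inferInstance (card_inf_coprime (Lib.Cores.pPrimeCore_coprime p))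
  have hRYp : IsPGroup 2 ↥(R.subgroupOf Y) := hC.1.to_le hRY
  have hmax : R ⊓ Y = TH := by
    have h1 : IsPGroup 2 ↥(R ⊓ Y : Subgroup H) := by
      have h2 := hRYp.map Y.subtype
      rwa [subgroupOf_map_subtype] at h2
    -- as a subgroup of `R`
    have h3 : IsPGroup 2 ↥((R ⊓ Y).subgroupOf R) :=
      h1.of_equiv (subgroupOfEquivOfLe inf_le_left).symm
    have h4 : (T : Subgroup ↥R) ≤ (R ⊓ Y).subgroupOf R := by
      intro t ht
      exact ⟨t.2, hTC ⟨t, ht, rfl⟩⟩
    have h5 := T.is_maximal' h3 h4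
    have h6 : TH = ((R ⊓ Y).subgroupOf R).map R.subtype := by
      change (T : Subgroup ↥R).map R.subtype = _
      rw [h5]
    rw [h6, subgroupOf_map_subtype]
    rw [inf_comm R Y, inf_assoc, inf_idem]
  have hTn : (TH.subgroupOf Y).Normal := by
    have h1 : TH.subgroupOf Y = R.subgroupOf Y := by
      ext y
      rw [mem_subgroupOf, mem_subgroupOf, ← hmax]
      exact ⟨fun h => h.1, fun h => ⟨h, y.2⟩⟩
    rw [h1]
    infer_instance
  have hTO : TH.subgroupOf Y ≤ pPrimeCore p ↥Y := by
    refine le_trans ?_ hRY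
    intro y hy
    exact mem_subgroupOf.2 (hTHR (mem_subgroupOf.1 hy))
  -- the normalizer of `T` centralizes `s`
  have hNs : normalizer (TH : Set H) ≤ Y := by
    intro n hn
    have h1 : n * s * n⁻¹ ∈ TH := (mem_normalizer_iff.1 hn s).1 hsT
    have h2 := hC.2 (TH.subgroupOf Y) hTn hTO (mem_subgroupOf.2 hsT) ⟨n * s * n⁻¹, hTC h1⟩ (mem_subgroupOf.2 h1) ?_ ?_
    · have h3 : n * s * n⁻¹ = s := congrArg Subtype.val h2
      exact mem_centralizer_singleton_iff.2 (mul_inv_eq_iff_eq_mul.1 h3)
    · intro t ht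
      apply Subtype.ext
      change (t : H) * (n * s * n⁻¹) = (n * s * n⁻¹) * (t : H)
      have h3 : n⁻¹ * (t : H) * n ∈ TH := by
        have h4 := (mem_normalizer_iff.1 (inv_mem hn) (t : H)).1 (mem_subgroupOf.1 ht)
        rwa [inv_inv] at h4
      have h4 := hscomm _ h3
      calc (t : H) * (n * s * n⁻¹) = n * ((n⁻¹ * (t : H) * n) * s) * n⁻¹ := by group
        _ = n * (s * (n⁻¹ * (t : H) * n)) * n⁻¹ := by rw [h4]
        _ = (n * s * n⁻¹) * (t : H) := by group
    · rw [← Subgroup.orderOf_coe]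
      change orderOf (n * s * n⁻¹) = 2
      rw [← MulAut.conj_apply, MulEquiv.orderOf_eq, hs2]
  -- Frattini
  have hF : R ⊔ Y = ⊤ := by
    have h1 := Sylow.normalizer_sup_eq_top T
    rw [eq_top_iff, ← h1, sup_comm]
    exact sup_le_sup_left hNs R
  exact (comps_of_sup R Y (Lib.Cores.pPrimeCore_coprime p) hF).1 (hall s hs2 hsR)

/-! ### The reduction -/

/-- In a group with trivial `p'`-core the centre of a component is a `p`-group. -/
theorem isPGroup_center_comp {X : Type u} [Group X] [Finite X] (hp : p.Prime) (hX : pPrimeCore p X = ⊥) {K : Subgroup X}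
    (hK : K.IsSubnormal) : IsPGroup p ↥(center ↥K) := by
  intro a
  obtain ⟨k, m, hm, hk⟩ := Nat.exists_eq_pow_mul_and_not_dvd (n := orderOf (a : ↥K)) (orderOf_pos _).ne' p hp.ne_one
  refine ⟨k, ?_⟩
  have hN : (zpowers ((a : ↥K) ^ p ^ k)).Normal := by
    refine ⟨?_⟩
    rintro _ ⟨j, rfl⟩ g
    have h1 : ((a : ↥K) ^ p ^ k) ^ j ∈ center ↥K := zpow_mem (pow_mem a.2 _) j
    have h2 := mem_center_iff.1 h1 g
    change g * ((a : ↥K) ^ p ^ k) ^ j * g⁻¹ ∈ _
    rw [h2, mul_inv_cancel_right]
    exact ⟨j, rfl⟩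
  have hc : (Nat.card ↥(zpowers ((a : ↥K) ^ p ^ k))).Coprime p := by
    rw [Nat.card_zpowers]
    have h1 : orderOf ((a : ↥K) ^ p ^ k) ∣ m := by
      apply orderOf_dvd_of_pow_eq_one
      rw [← pow_mul, ← hk, pow_orderOf_eq_one]
    refine Nat.Coprime.coprime_dvd_left h1 ?_
    exact ((Nat.Prime.coprime_iff_not_dvd hp).2 hm).symm
  have h1 := comp_normal_coprime hX hK hN hc
  have h2 : (a : ↥K) ^ p ^ k ∈ zpowers ((a : ↥K) ^ p ^ k) := mem_zpowers _
  rw [h1, mem_bot] at h2
  exact Subtype.ext h2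

/-- **The reduction.** Let `H` be a finite group in which the centralizers of involutions satisfy `Comps p`, and with
`CoreCond` for the involutions of `O_{p'}(H)`. If every almost simple quotient `H / W`, `|W|` odd, with socle
`K ≅ L / Z(L)`, `L` quasisimple with `Z(L)` a `p`-group, has `L` a `C_p`-group, then `Comps p H`. -/
theorem main (FT : ∀ (K : Type u) [Group K] [Finite K], Odd (Nat.card K) → Group.IsSolvable K) (hp : p.Prime)
    (hall : ∀ s : H, orderOf s = 2 → Comps p ↥(centralizer ({s} : Set H)))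
    (hcore : ∀ (s : H) (_ : orderOf s = 2), s ∈ pPrimeCore p H →
      CoreCond p ↥(centralizer ({s} : Set H)) ⟨s, mem_centralizer_singleton_iff.2 rfl⟩)
    (hbad : ∀ (W : Subgroup H) [W.Normal] (K : Subgroup (H ⧸ W)) (L : Type u) [Group L] [Finite L],
      Odd (Nat.card ↥W) → center H ≤ W → pPrimeCore p H ≤ W → K.Normal → IsSimpleGroup ↥K → ¬ IsMulCommutative ↥K →
      centralizer (K : Set (H ⧸ W)) = ⊥ → IsQuasisimple L → IsPGroup p ↥(center L) →
      Nonempty (L ⧸ center L ≃* ↥K) → InC p L) : Comps p H := by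
  have hn := Lib.Cores.pPrimeCore_normal (G := H) p
  have : Fact (Nat.Prime 2) := ⟨Nat.prime_two⟩
  rcases Nat.even_or_odd (Nat.card ↥(pPrimeCore p H)) with hR | hR
  · exact comps_of_even hp hR (fun s hs _ => hall s hs) hcore
  intro L hL
  by_contra hLC
  set R := pPrimeCore p H with hRdef
  let π := QuotientGroup.mk' R
  have hb : pPrimeCore p (H ⧸ R) = ⊥ := Lib.Cores.pPrimeCore_quotient_pPrimeCore p
  let W0 := centralizer (L : Set (H ⧸ R))
  have hW0 : Odd (Nat.card ↥W0) := by
    rw [← Nat.not_even_iff_odd]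
    intro he
    obtain ⟨y, hy⟩ := exists_prime_orderOf_dvd_card' 2 (even_iff_two_dvd.1 he)
    have hy2 : orderOf (y : H ⧸ R) = 2 := by rw [Subgroup.orderOf_coe, hy]
    obtain ⟨s, hs, hsy⟩ := exists_involution_lift R hR hy2
    apply hLC
    refine inC_of_involution hR hL hs (hall s hs) ?_
    intro l hl
    change π s = y at hsy
    change π s * l = l * π s
    rw [hsy]
    exact (mem_centralizer_iff.1 y.2 l hl).symm
  have huniq : ∀ M : Subgroup (H ⧸ R), IsComponent M → M = L := by
    intro M hM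
    by_contra hne
    have h1 := Components.component_le_centralizer_of_ne hM hL hne
    have h2 : Odd (Nat.card ↥M) := hW0.of_dvd_nat (card_dvd_of_le h1)
    exact Components.quasisimple_not_isSolvable hM.2 (FT _ h2)
  have hLn : L.Normal := by
    refine ⟨fun n hn g => ?_⟩
    have h1 := huniq _ (Components.isComponent_conj g hL)
    have h2 : (MulAut.conj g) n ∈ L.map (MulAut.conj g).toMonoidHom := ⟨n, hn, rfl⟩
    rw [h1] at h2
    exact h2
  have hW0n : W0.Normal := Subgroup.normal_centralizer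
  let W := W0.comap π
  have hWn : W.Normal := hW0n.comap π
  have hRW : R ≤ W := by
    intro r hr
    have h1 : π r = 1 := (QuotientGroup.eq_one_iff _).2 hr
    change π r ∈ W0
    rw [h1]
    exact one_mem _
  have hWodd : Odd (Nat.card ↥W) := by
    rw [← Nat.not_even_iff_odd]
    intro he
    obtain ⟨y, hy⟩ := exists_prime_orderOf_dvd_card' 2 (even_iff_two_dvd.1 he)
    have hy2 : orderOf (y : H) = 2 := by rw [Subgroup.orderOf_coe, hy]
    have h1 : orderOf (⟨π y, y.2⟩ : ↥W0) ∣ 2 := by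
      apply orderOf_dvd_of_pow_eq_one
      apply Subtype.ext
      change (π (y : H)) ^ 2 = 1
      rw [← map_pow, ← hy2, pow_orderOf_eq_one, map_one]
    have h2 : orderOf (⟨π y, y.2⟩ : ↥W0) ∣ Nat.card ↥W0 := orderOf_dvd_natCard _
    have h3 : orderOf (⟨π y, y.2⟩ : ↥W0) = 1 :=
      Nat.eq_one_of_dvd_coprimes (Nat.coprime_two_right.2 hW0) h2 h1
    rw [orderOf_eq_one_iff] at h3
    have h4 : π (y : H) = 1 := congrArg Subtype.val h3
    have h5 : (y : H) ∈ R := (QuotientGroup.eq_one_iff _).1 h4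
    have h6 : orderOf (⟨y, h5⟩ : ↥R) ∣ Nat.card ↥R := orderOf_dvd_natCard _
    rw [← Subgroup.orderOf_coe] at h6
    change orderOf (y : H) ∣ _ at h6
    rw [hy2] at h6
    exact (Nat.not_even_iff_odd.2 hR) (even_iff_two_dvd.2 h6)
  let ψ : H ⧸ R →* H ⧸ W := QuotientGroup.map R W (MonoidHom.id H) hRW
  have hψ : Function.Surjective ψ := by
    intro y
    obtain ⟨g, rfl⟩ := QuotientGroup.mk'_surjective W y
    exact ⟨π g, rfl⟩
  have hker : ∀ x : H ⧸ R, ψ x = 1 ↔ x ∈ W0 := by
    intro x
    obtain ⟨g, rfl⟩ := QuotientGroup.mk'_surjective R x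
    have h1 : ψ (QuotientGroup.mk' R g) = (g : H ⧸ W) := rfl
    rw [h1, QuotientGroup.eq_one_iff]
    rfl
  have hinf : ∀ x : ↥L, (x : H ⧸ R) ∈ W0 ↔ x ∈ center ↥L := by
    intro x
    rw [mem_center_iff]
    constructor
    · intro hx g
      exact Subtype.ext (mem_centralizer_iff.1 hx g g.2)
    · intro hx
      rw [mem_centralizer_iff]
      intro g hg
      exact congrArg Subtype.val (hx ⟨g, hg⟩)
  let f : ↥L →* ↥(L.map ψ) := ψ.subgroupMap L
  have hf : Function.Surjective f := ψ.subgroupMap_surjective L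
  have hfk : f.ker = center ↥L := by
    ext x
    rw [MonoidHom.mem_ker, ← hinf, ← hker]
    constructor
    · intro hx
      exact congrArg Subtype.val hx
    · intro hx
      exact Subtype.ext hx
  let e : ↥L ⧸ center ↥L ≃* ↥(L.map ψ) :=
    (QuotientGroup.quotientMulEquivOfEq hfk.symm).trans (QuotientGroup.quotientKerEquivOfSurjective f hf)
  have hsimp : IsSimpleGroup (↥L ⧸ center ↥L) := hL.2.2
  have hnc : ¬ IsMulCommutative ↥(L.map ψ) := by
    intro hc
    apply Components.quasisimple_not_isSolvable hL.2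
    rw [Group.isSolvable_iff_subgroup_quotient (center ↥L)]
    refine ⟨?_, ?_⟩
    · exact Group.isSolvable_of_comm fun a b => Subtype.ext (mem_center_iff.1 b.2 a)
    · have h1 : Group.IsSolvable ↥(L.map ψ) := Group.isSolvable_of_comm fun a b => hc.is_comm.comm a b
      exact Group.isSolvable_of_isSolvable_injective (f := e.toMonoidHom) e.injective
  apply hLC
  refine hbad W (L.map ψ) ↥L hWodd ?_ hRW (Subgroup.Normal.map hLn ψ hψ) ?_ hnc ?_ hL.2
    (isPGroup_center_comp hp hb hL.1) ⟨e⟩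
  · intro z hz
    change π z ∈ W0
    rw [mem_centralizer_iff]
    intro l hl
    obtain ⟨g, rfl⟩ := QuotientGroup.mk'_surjective R l
    change π g * π z = π z * π g
    rw [← map_mul, ← map_mul, mem_center_iff.1 hz g]
  · exact (MulEquiv.isSimpleGroup_congr e).1 hsimp
  · rw [eq_bot_iff]
    intro y hy
    obtain ⟨h, rfl⟩ := hψ y
    rw [mem_bot, hker]
    -- `l ↦ [h, l]` is a homomorphism of `L` into `Z(L)`
    have hcz : ∀ l : ↥L, h * l * h⁻¹ * (l : H ⧸ R)⁻¹ ∈ W0 ∧ h * l * h⁻¹ * (l : H ⧸ R)⁻¹ ∈ L := by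
      intro l
      refine ⟨?_, mul_mem (hLn.conj_mem l l.2 h) (inv_mem l.2)⟩
      rw [← hker]
      have h1 := mem_centralizer_iff.1 hy (ψ l) ⟨l, l.2, rfl⟩
      rw [map_mul, map_mul, map_mul, map_inv, map_inv, ← h1]
      group
    have hcz' : ∀ l : ↥L, (⟨_, (hcz l).2⟩ : ↥L) ∈ center ↥L := fun l => (hinf _).1 (hcz l).1
    let φ : ↥L →* ↥(center ↥L) :=
      { toFun := fun l => ⟨_, hcz' l⟩
        map_one' := by
          apply Subtype.ext
          apply Subtype.ext
          change h * 1 * h⁻¹ * 1⁻¹ = 1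
          group
        map_mul' := by
          intro a b
          apply Subtype.ext
          apply Subtype.ext
          change h * (a * b) * h⁻¹ * (a * b : H ⧸ R)⁻¹ = (h * a * h⁻¹ * (a : H ⧸ R)⁻¹) * (h * b * h⁻¹ * (b : H ⧸ R)⁻¹)
          have h1 := congrArg Subtype.val (mem_center_iff.1 (hcz' b) a)
          change (a : H ⧸ R) * (h * b * h⁻¹ * (b : H ⧸ R)⁻¹) = (h * b * h⁻¹ * (b : H ⧸ R)⁻¹) * a at h1
          calc h * (a * b) * h⁻¹ * (a * b : H ⧸ R)⁻¹
              = (h * a * h⁻¹) * (h * b * h⁻¹ * (b : H ⧸ R)⁻¹) * (a : H ⧸ R)⁻¹ := by group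
            _ = (h * a * h⁻¹) * (a : H ⧸ R)⁻¹ * ((a : H ⧸ R) * (h * b * h⁻¹ * (b : H ⧸ R)⁻¹)) * (a : H ⧸ R)⁻¹ := by
                group
            _ = (h * a * h⁻¹ * (a : H ⧸ R)⁻¹) * (h * b * h⁻¹ * (b : H ⧸ R)⁻¹) := by
                rw [h1]
                group }
    rw [mem_centralizer_iff]
    intro l hl
    have h1 : φ ⟨l, hl⟩ = 1 := by
      let _ : CommGroup ↥(center ↥L) := { (inferInstance : Group ↥(center ↥L)) with
        mul_comm := fun a b => Subtype.ext (mem_center_iff.1 b.2 a) }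
      exact CompBasic.hom_eq_one_of_perfect hL.2.1 φ ⟨l, hl⟩
    have h2 : h * l * h⁻¹ * l⁻¹ = 1 := congrArg (fun z : ↥(center ↥L) => ((z : ↥L) : H ⧸ R)) h1
    have h3 := mul_inv_eq_one.1 h2
    exact (mul_inv_eq_iff_eq_mul.1 h3).symm

end

end Cfsg.Agent.LThree.Red
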